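import Mathlib
import Groth.Agent.Lib.Helper2.PInsep.Alg
import Groth.Agent.Lib.Helper9.FFExt.GeoSep

/-!
# Field theory for Frobenius twists of curves (helper2)

`K/k` a finitely generated field extension of transcendence degree one which stays reduced after
finite base field extensions (geometrically reduced), `K/L` finite purely inseparable of degree
`p ^ r` with `k ⊆ L`.  Then `L` is generated by `k` and `K^(p^r)`.
-/

set_option autoImplicit false
set_option backward.isDefEq.respectTransparency.types false
set_option synthInstance.maxHeartbeats 400000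
set_option maxHeartbeats 4000000
set_option linter.style.haveILetI false
set_option linter.unusedSectionVars false
set_option linter.unusedVariables false

universe u

namespace Groth.Agent.Helper2.FrobTw

open TensorProduct
open scoped IntermediateField

/-- MacLane's criterion from reducedness of finite base changes (after helper9's
`linearIndepOn_pow_of_isGeometric`) -/
theorem linearIndepOn_pow_of_isReduced {k : Type u} {K : Type u} [Field k] [Field K]
    [Algebra k K]
    (hred : ∀ E : IntermediateField k (AlgebraicClosure k), FiniteDimensional k E →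
      IsReduced (E ⊗[k] K))
    (p : ℕ) (hp : p.Prime) [CharP k p]
    (s : Finset K) (hs : LinearIndepOn k id (s : Set K)) :
    LinearIndepOn k (fun x : K => x ^ p) (s : Set K) := by
  classical
  rw [LinearIndepOn, Fintype.linearIndependent_iff]
  intro g hg0
  have hroot : ∀ c : k, ∃ r : AlgebraicClosure k, r ^ p = algebraMap k (AlgebraicClosure k) c :=
    fun c => IsAlgClosed.exists_pow_nat_eq _ hp.pos
  choose r hr using hroot
  let gK : K → k := fun x => if hx : x ∈ s then g ⟨x, hx⟩ else 0
  obtain ⟨L, hL⟩ : ∃ L : IntermediateField k (AlgebraicClosure k),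
      L = IntermediateField.adjoin k ((fun x : K => r (gK x)) '' (s : Set K)) := ⟨_, rfl⟩
  have hLfin : FiniteDimensional k L := by
    rw [hL]
    exact IntermediateField.finiteDimensional_adjoin (fun x _ => Algebra.IsIntegral.isIntegral x)
  have hmem : ∀ x ∈ s, r (gK x) ∈ L := by
    intro x hx
    rw [hL]
    exact IntermediateField.subset_adjoin _ _ ⟨x, hx, rfl⟩
  let r' : K → L := fun x => if hx : x ∈ s then ⟨r (gK x), hmem x hx⟩ else 0
  haveI hR : IsReduced (L ⊗[k] K) := hred L hLfin
  haveI : Nontrivial (L ⊗[k] K) := by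
    have hinj : Function.Injective (Algebra.TensorProduct.includeRight : K →ₐ[k] L ⊗[k] K) :=
      Algebra.TensorProduct.includeRight_injective (algebraMap k L).injective
    exact hinj.nontrivial
  have hchar : CharP (L ⊗[k] K) p :=
    charP_of_injective_algebraMap (algebraMap k (L ⊗[k] K)).injective p
  haveI : ExpChar (L ⊗[k] K) p := .prime hp
  have hz : (∑ x ∈ s, r' x ⊗ₜ[k] x) ^ p = 0 := by
    rw [sum_pow_char (R := L ⊗[k] K) p]
    have : ∀ x ∈ s, (r' x ⊗ₜ[k] x) ^ p = (1 : L) ⊗ₜ[k] (gK x • x ^ p) := by
      intro x hx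
      rw [Algebra.TensorProduct.tmul_pow]
      have h1 : r' x ^ p = algebraMap k L (gK x) := by
        apply Subtype.ext
        simp only [r', dif_pos hx]
        exact hr (gK x)
      rw [h1, Algebra.algebraMap_eq_smul_one, TensorProduct.smul_tmul]
    rw [Finset.sum_congr rfl this, ← TensorProduct.tmul_sum]
    have h2 : ∑ x ∈ s, gK x • x ^ p = 0 := by
      rw [← hg0, Finset.sum_subtype s (p := (· ∈ (s : Set K))) (fun x => Finset.mem_coe.symm)]
      refine Finset.sum_congr rfl fun x _ => ?_
      have hx : x.1 ∈ s := Finset.mem_coe.mp x.2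
      simp only [gK, dif_pos hx]
    rw [h2, TensorProduct.tmul_zero]
  have hz0 : ∑ x ∈ s, r' x ⊗ₜ[k] x = 0 := IsReduced.eq_zero _ ⟨p, hz⟩
  have hr0 := Groth.Agent.Helper9.FFExt.tmul_eq_zero_of_linearIndepOn s hs r' hz0
  intro x
  have hx : x.1 ∈ s := Finset.mem_coe.mp x.2
  have h3 := hr0 x.1 hx
  simp only [r', dif_pos hx] at h3
  have h4 : r (gK x.1) = 0 := congrArg Subtype.val h3
  have h5 := hr (gK x.1)
  rw [h4, zero_pow hp.ne_zero] at h5
  have h6 : gK x.1 = 0 :=
    (algebraMap k (AlgebraicClosure k)).injective (h5.symm.trans (map_zero _).symm)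
  simpa only [gK, dif_pos hx] using h6

/-- a separating variable -/
theorem exists_separating {k : Type u} {K : Type u} [Field k] [Field K] [Algebra k K]
    [Algebra.EssFiniteType k K] (htr : Algebra.trdeg k K = 1)
    (hred : ∀ E : IntermediateField k (AlgebraicClosure k), FiniteDimensional k E →
      IsReduced (E ⊗[k] K))
    (p : ℕ) (hp : p.Prime) [CharP k p] :
    ∃ t : K, Algebra.IsSeparable (IntermediateField.adjoin k ({t} : Set K)) K := by
  haveI : ExpChar k p := .prime hp
  obtain ⟨s, hs, hsep⟩ :=
    exists_isTranscendenceBasis_and_isSeparable_of_linearIndepOn_pow_of_essFiniteType p hp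
      (fun s hs => linearIndepOn_pow_of_isReduced hred p hp s hs)
  have hcard : s.card = 1 := by
    have h1 := hs.cardinalMk_eq_trdeg
    rw [htr] at h1
    have h2 : Cardinal.mk s = s.card := by simp
    rw [h2] at h1
    exact_mod_cast h1
  obtain ⟨x, rfl⟩ := Finset.card_eq_one.mp hcard
  refine ⟨x, ?_⟩
  rwa [Finset.coe_singleton] at hsep

/-- the degree bound: a subfield containing `k` and all `p^r`-th powers has index at most `p^r` -/
theorem finrank_le_of_pow_mem {k : Type u} {K : Type u} [Field k] [Field K] [Algebra k K]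
    (p : ℕ) (hp : p.Prime) [CharP k p] (t : K)
    [hsep : Algebra.IsSeparable (IntermediateField.adjoin k ({t} : Set K)) K]
    (N : IntermediateField k K) (r : ℕ) (hN : ∀ x : K, x ^ p ^ r ∈ N) :
    FiniteDimensional N K ∧ Module.finrank N K ≤ p ^ r := by
  haveI : ExpChar k p := .prime hp
  haveI : ExpChar N p := expChar_of_injective_algebraMap (algebraMap k N).injective p
  -- `t` is integral over `N`
  let q : Polynomial N := Polynomial.X ^ p ^ r - Polynomial.C ⟨t ^ p ^ r, hN t⟩
  have hqm : q.Monic := Polynomial.monic_X_pow_sub_C _ (pow_pos hp.pos r).ne'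
  have hqt : Polynomial.aeval t q = 0 := by
    simp only [q, map_sub, map_pow, Polynomial.aeval_X, Polynomial.aeval_C]
    exact sub_self _
  have hint : IsIntegral N t := ⟨q, hqm, hqt⟩
  let E : IntermediateField N K := IntermediateField.adjoin N ({t} : Set K)
  have htE : t ∈ E := IntermediateField.mem_adjoin_simple_self N t
  -- `K / E` is purely inseparable
  haveI : ExpChar E p := expChar_of_injective_algebraMap (algebraMap N E).injective p
  haveI hpi : IsPurelyInseparable E K := by
    rw [isPurelyInseparable_iff_pow_mem E p]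
    intro x
    refine ⟨r, ⟨⟨x ^ p ^ r, ?_⟩, rfl⟩⟩
    exact (algebraMap_mem E (⟨x ^ p ^ r, hN x⟩ : N))
  -- `K / E` is separable
  have hle : IntermediateField.adjoin k ({t} : Set K) ≤ E.restrictScalars k := by
    rw [IntermediateField.adjoin_le_iff]
    intro y hy
    rw [Set.mem_singleton_iff] at hy
    rw [hy]
    exact htE
  letI algtE : Algebra (IntermediateField.adjoin k ({t} : Set K)) E :=
    (IntermediateField.inclusion hle).toRingHom.toAlgebra
  haveI : IsScalarTower (IntermediateField.adjoin k ({t} : Set K)) E K :=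
    IsScalarTower.of_algebraMap_eq (fun x => rfl)
  haveI hsepE : Algebra.IsSeparable E K :=
    Algebra.isSeparable_tower_top_of_isSeparable (IntermediateField.adjoin k ({t} : Set K)) E K
  have htop : E = ⊤ := by
    rw [eq_top_iff]
    intro x _
    obtain ⟨y, hy⟩ := IsPurelyInseparable.surjective_algebraMap_of_isSeparable E K x
    rw [← hy]
    exact y.2
  haveI hfinE : FiniteDimensional N E := IntermediateField.adjoin.finiteDimensional hint
  have hfr : Module.finrank N E = (minpoly N t).natDegree := IntermediateField.adjoin.finrank hint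
  have hdeg : (minpoly N t).natDegree ≤ p ^ r := by
    have h1 := Polynomial.natDegree_le_natDegree (minpoly.min N t hqm hqt)
    have h2 : q.natDegree = p ^ r := by
      simp only [q]
      rw [Polynomial.natDegree_X_pow_sub_C]
    rwa [h2] at h1
  have e : E ≃ₗ[N] K := by
    rw [htop]
    exact (IntermediateField.topEquiv (F := N) (E := K)).toLinearEquiv
  refine ⟨e.finiteDimensional, ?_⟩
  rw [← e.finrank_eq, hfr]
  exact hdeg

/-- the main algebraic statement -/
theorem surjective_of_geomReduced (k K L M : Type u) [Field k] [Field K] [Field L] [Field M]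
    [Algebra k K] [Algebra k L] [Algebra k M] [Algebra L K] [IsScalarTower k L K]
    (p : ℕ) (hp : p.Prime) [CharP k p]
    [Algebra.EssFiniteType k K] (htr : Algebra.trdeg k K = 1)
    (hred : ∀ E : IntermediateField k (AlgebraicClosure k), FiniteDimensional k E →
      IsReduced (E ⊗[k] K))
    (r : ℕ) (hr : Module.finrank L K = p ^ r)
    (φ : M →ₐ[k] L) (hφ : ∀ x : K, ∃ m : M, algebraMap L K (φ m) = x ^ p ^ r) :
    Function.Surjective φ := by
  obtain ⟨t, hsep⟩ := exists_separating htr hred p hp
  let ιa : L →ₐ[k] K := IsScalarTower.toAlgHom k L K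
  let j : M →ₐ[k] K := ιa.comp φ
  let N : IntermediateField k K := j.fieldRange
  let L' : IntermediateField k K := ιa.fieldRange
  have hNL : N ≤ L' := by
    rintro _ ⟨m, rfl⟩
    exact ⟨φ m, rfl⟩
  have hN : ∀ x : K, x ^ p ^ r ∈ N := by
    intro x
    obtain ⟨m, hm⟩ := hφ x
    exact ⟨m, hm⟩
  obtain ⟨hfin, hle⟩ := finrank_le_of_pow_mem p hp t N r hN
  have hL' : Module.finrank L' K = p ^ r := by
    rw [← hr]
    symm
    let e : L ≃+* L' := (AlgEquiv.ofInjectiveField ιa).toRingEquiv
    exact Algebra.finrank_eq_of_equiv_equiv e (RingEquiv.refl K) (by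
      ext l
      rfl)
  have hEq : N = L' := IntermediateField.eq_of_le_of_finrank_le' hNL (by rw [hL']; exact hle)
  intro l
  have hl : ιa l ∈ L' := ⟨l, rfl⟩
  rw [← hEq] at hl
  obtain ⟨m, hm⟩ := hl
  refine ⟨m, ?_⟩
  exact ιa.toRingHom.injective hm

end Groth.Agent.Helper2.FrobTw
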