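import Mathlib
import Groth.Prelude.Def_Flat
import Groth.Agent.Lib.Helper7.FrobUH
import Groth.Agent.Lib.Helper2.Sch.Reduced
import Groth.Agent.Lib.Helper2.Sch.SmoothFieldRegular

/-!
# The Frobenius twist of a scheme over a field of characteristic `p` (helper2)
-/

set_option autoImplicit false
set_option backward.isDefEq.respectTransparency.types false
set_option synthInstance.maxHeartbeats 400000
set_option maxHeartbeats 4000000
set_option linter.style.haveILetI false
set_option linter.unusedSectionVars false
set_option linter.unusedVariables false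

universe u
open CategoryTheory CategoryTheory.Limits AlgebraicGeometry IsLocalRing

namespace Groth.Agent.Helper2.FrobTw

/-- the spectrum of an iterated Frobenius of a field is a universal homeomorphism -/
theorem isUnivHomeo_iterateFrobenius (k : Type u) [Field k] (p : ℕ) [ExpChar k p] (r : ℕ) :
    FlatMor.IsUnivHomeo (Spec.map (CommRingCat.ofHom (iterateFrobenius k p r))) := by
  rw [Groth.Agent.Helper7.FPColim.uh_iff_crit]
  refine ⟨⟨?_, ?_⟩, ?_⟩
  · intro s
    refine ⟨Polynomial.X ^ p ^ r - Polynomial.C s,
      Polynomial.monic_X_pow_sub_C s (expChar_pow_pos k p r).ne', ?_⟩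
    simp [Polynomial.eval₂_sub, Polynomial.eval₂_pow, iterateFrobenius_def]
  · intro K _ ψ ψ' hψ
    haveI : ExpChar K p := expChar_of_injective_ringHom ψ.injective p
    ext a
    have e := congrArg (fun f => f a) hψ
    simp only [RingHom.comp_apply, iterateFrobenius_def, map_pow] at e
    apply (iterateFrobenius K p r).injective
    rw [iterateFrobenius_def, iterateFrobenius_def]
    exact e
  · intro a ha
    rw [RingHom.mem_ker] at ha
    have h0 : a = 0 := (iterateFrobenius k p r).injective (ha.trans (map_zero _).symm)
    rw [h0]
    exact zero_mem _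

section Twist

variable (k : Type u) [Field k] (p : ℕ) [ExpChar k p] (r : ℕ) {X : Scheme.{u}}
  (s : X ⟶ Spec (CommRingCat.of k))

/-- the `r`-fold Frobenius twist -/
noncomputable abbrev tw : Scheme.{u} :=
  pullback s (Spec.map (CommRingCat.ofHom (iterateFrobenius k p r)))

noncomputable abbrev twFst : tw k p r s ⟶ X :=
  pullback.fst s (Spec.map (CommRingCat.ofHom (iterateFrobenius k p r)))

noncomputable abbrev twSnd : tw k p r s ⟶ Spec (CommRingCat.of k) :=
  pullback.snd s (Spec.map (CommRingCat.ofHom (iterateFrobenius k p r)))

theorem isHomeomorph_twFst : IsHomeomorph (twFst k p r s) :=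
  Groth.Agent.Helper9.UH.isHomeomorph_of_isUnivHomeo _
    (MorphismProperty.pullback_fst _ _ (isUnivHomeo_iterateFrobenius k p r))

theorem irreducibleSpace_tw [IrreducibleSpace X] : IrreducibleSpace (tw k p r s) := by
  let e : tw k p r s ≃ₜ X := (isHomeomorph_twFst k p r s).homeomorph _
  have h1 : IsIrreducible (Set.univ : Set X) := IrreducibleSpace.isIrreducible_univ X
  have h2 := h1.image e.symm e.symm.continuous.continuousOn
  rw [Set.image_univ, e.symm.surjective.range_eq] at h2
  exact (irreducibleSpace_def _).mpr h2

theorem dim_tw : topologicalKrullDim (tw k p r s) = topologicalKrullDim X :=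
  IsHomeomorph.topologicalKrullDim_eq _ (isHomeomorph_twFst k p r s)

theorem twFst_genericPoint [IrreducibleSpace X] [IrreducibleSpace (tw k p r s)] :
    twFst k p r s (genericPoint (tw k p r s)) = genericPoint X := by
  obtain ⟨a, ha⟩ := (isHomeomorph_twFst k p r s).surjective (genericPoint X)
  have h1 : twFst k p r s (genericPoint (tw k p r s)) ⤳ genericPoint X :=
    ha ▸ (genericPoint_specializes a).map (twFst k p r s).continuous
  exact (h1.antisymm (genericPoint_specializes _)).eq

theorem isReduced_tw [Smooth s] : IsReduced (tw k p r s) := by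
  haveI : Smooth (twSnd k p r s) := inferInstance
  exact Groth.Agent.Helper2.SchLib.isReduced_of_smooth (twSnd k p r s)

theorem isRegular_tw [Smooth s] (x : tw k p r s) :
    IsRegularLocalRing ((tw k p r s).presheaf.stalk x) := by
  haveI : Smooth (twSnd k p r s) := inferInstance
  exact Groth.Agent.Helper2.SmoothFieldRegular.S1535_main k (twSnd k p r s) x

end Twist

end Groth.Agent.Helper2.FrobTw
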