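import Mathlib
import Groth.Agent.Lib.Helper2.FrobTw.Main
import Groth.Agent.Lib.Helper1.FBC5
import Groth.Agent.Lib.Helper1.PullSec
import Groth.Agent.Lib.Lead.SeesawCor

/-!
# Frobenius twists of proper curves: cohomology and genus (S6558) (helper2)
-/

set_option autoImplicit false
set_option backward.isDefEq.respectTransparency.types false
set_option synthInstance.maxHeartbeats 400000
set_option maxHeartbeats 4000000
set_option linter.style.haveILetI false
set_option linter.unusedSectionVars false
set_option linter.unusedVariables false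

universe u
open CategoryTheory CategoryTheory.Limits AlgebraicGeometry IsLocalRing
open scoped TensorProduct

namespace Groth.Agent.Helper2.FrobTw

open Groth.Agent.Lib.Helper4.RationalExt2 Groth.Agent.Helper2.P1Luroth Groth.Agent.Helper2.PInsep
open Groth.Agent.Lib.Helper4.P1Curve1

attribute [local instance] Curv2.stalkAlgebra

/-- proper version of `S11585_main` -/
theorem twist_iso_of_proper (k : Type u) [Field k] (p : ℕ) [Fact p.Prime] [ExpChar k p]
    (X Y : Scheme.{u}) [X.Over (Spec (CommRingCat.of k))] [Y.Over (Spec (CommRingCat.of k))]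
    [IsProper (X ↘ (Spec (CommRingCat.of k)))] [IsProper (Y ↘ (Spec (CommRingCat.of k)))]
    [IsIntegral X] [IsIntegral Y] (hdX : topologicalKrullDim X = 1)
    (hdY : topologicalKrullDim Y = 1)
    (hnY : Pi1.IsNormalScheme Y)
    [Smooth (X ↘ (Spec (CommRingCat.of k)))]
    (f : X ⟶ Y)
    (hf : f ≫ (Y ↘ (Spec (CommRingCat.of k))) = X ↘ (Spec (CommRingCat.of k)))
    (e : f (genericPoint X) = genericPoint Y)
    (hpi : letI := ((Y.presheaf.stalkSpecializes (specializes_of_eq e) ≫
        f.stalkMap (genericPoint X)).hom).toAlgebra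
      IsPurelyInseparable Y.functionField X.functionField) :
    ∃ (r : ℕ) (i : Y ≅ pullback (X ↘ (Spec (CommRingCat.of k)))
        (Spec.map (CommRingCat.ofHom (iterateFrobenius k p r)))),
      i.hom ≫ pullback.snd (X ↘ (Spec (CommRingCat.of k)))
        (Spec.map (CommRingCat.ofHom (iterateFrobenius k p r))) =
        Y ↘ (Spec (CommRingCat.of k)) := by
  have hp : p.Prime := Fact.out
  haveI hchar : CharP k p := by
    rcases ‹ExpChar k p› with _ | ⟨_⟩
    · exact absurd hp Nat.not_prime_one
    · assumption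
  haveI : LocallyOfFiniteType (X ↘ Spec (CommRingCat.of k)) := inferInstance
  haveI : IsLocallyNoetherian X :=
    LocallyOfFiniteType.isLocallyNoetherian (X ↘ Spec (CommRingCat.of k))
  -- the fields
  letI algLK : Algebra ↑Y.functionField ↑X.functionField :=
    ((Y.presheaf.stalkSpecializes (specializes_of_eq e) ≫
      f.stalkMap (genericPoint X)).hom).toAlgebra
  haveI hpi' : IsPurelyInseparable ↑Y.functionField ↑X.functionField := hpi
  let ιc : Y.presheaf.stalk (genericPoint Y) ⟶ X.presheaf.stalk (genericPoint X) :=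
    Y.presheaf.stalkSpecializes (specializes_of_eq e) ≫ f.stalkMap (genericPoint X)
  have hι := fromSpecStalk_comp_of_generic f ιc e rfl
  have hιρ : ιc.hom.comp (Curv2.stalkMap k Y (genericPoint Y)) =
      Curv2.stalkMap k X (genericPoint X) := stalkMap_comp_of_over k f hf ιc hι
  haveI htower : IsScalarTower k ↑Y.functionField ↑X.functionField :=
    IsScalarTower.of_algebraMap_eq (fun c => (congrArg (fun g => g c) hιρ).symm)
  haveI hess : Algebra.EssFiniteType k ↑X.functionField :=
    Groth.Agent.Helper2.SepHyp.essFiniteType_stalk k X (genericPoint X)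
  have htr : Algebra.trdeg k ↑X.functionField = 1 := trdeg_stalk_genericPoint k X hdX
  haveI hessL : Algebra.EssFiniteType ↑Y.functionField ↑X.functionField :=
    Algebra.EssFiniteType.of_comp k ↑Y.functionField ↑X.functionField
  haveI : Algebra.IsAlgebraic ↑Y.functionField ↑X.functionField := inferInstance
  haveI hfin : Module.Finite ↑Y.functionField ↑X.functionField :=
    Algebra.finite_of_essFiniteType_of_isAlgebraic
  haveI : ExpChar ↑Y.functionField p :=
    expChar_of_injective_algebraMap (algebraMap k ↑Y.functionField).injective p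
  obtain ⟨r, hr⟩ := IsPurelyInseparable.finrank_eq_pow (F := ↑Y.functionField) ↑X.functionField p
  obtain ⟨ψ, hψ⟩ := exists_frobenius_lift ↑Y.functionField ↑X.functionField p r hr
  refine ⟨r, ?_⟩
  -- geometric reducedness of the function field
  have hred : ∀ E : IntermediateField k (AlgebraicClosure k), FiniteDimensional k E →
      IsReduced (E ⊗[k] ↑X.functionField) := by
    intro E hE
    have h1 := (Groth.Agent.Helper3.GeoReg.S1628_main k X).2 (genericPoint X)
    have h2 := (Groth.Agent.Helper3.GeoReg.isGeomRegularAt_iff_isGeometricallyRegular k X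
      (genericPoint X)).mp h1
    haveI : IsRegularRing (E ⊗[k] ↑(X.presheaf.stalk (genericPoint X))) := h2 E hE
    exact isReduced_of_isRegularRing (E ⊗[k] ↑(X.presheaf.stalk (genericPoint X)))
  -- the twist
  haveI : Smooth (twSnd k p r (X ↘ Spec (CommRingCat.of k))) := inferInstance
  haveI : IsProper (twSnd k p r (X ↘ Spec (CommRingCat.of k))) := inferInstance
  haveI : IrreducibleSpace (tw k p r (X ↘ Spec (CommRingCat.of k))) := irreducibleSpace_tw k p r _
  haveI : IsReduced (tw k p r (X ↘ Spec (CommRingCat.of k))) := isReduced_tw k p r _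
  haveI : IsIntegral (tw k p r (X ↘ Spec (CommRingCat.of k))) :=
    isIntegral_of_irreducibleSpace_of_isReduced _
  have hdXr : topologicalKrullDim (tw k p r (X ↘ Spec (CommRingCat.of k))) = 1 :=
    (dim_tw k p r _).trans hdX
  have hregXr := isRegular_tw k p r (X ↘ Spec (CommRingCat.of k))
  have hπξ : twFst k p r (X ↘ Spec (CommRingCat.of k))
      (genericPoint (tw k p r (X ↘ Spec (CommRingCat.of k)))) = genericPoint X :=
    twFst_genericPoint k p r _
  letI ovXr : (tw k p r (X ↘ Spec (CommRingCat.of k))).Over (Spec (CommRingCat.of k)) :=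
    ⟨twSnd k p r (X ↘ Spec (CommRingCat.of k))⟩
  -- the point `Spec K(Y) ⟶ X_r`
  let ψc : X.presheaf.stalk (genericPoint X) ⟶ CommRingCat.of ↑Y.functionField :=
    CommRingCat.ofHom ψ
  let a : Spec (CommRingCat.of ↑Y.functionField) ⟶ X :=
    Spec.map ψc ≫ X.fromSpecStalk (genericPoint X)
  let b : Spec (CommRingCat.of ↑Y.functionField) ⟶ Spec (CommRingCat.of k) :=
    Spec.map (CommRingCat.ofHom (Curv2.stalkMap k Y (genericPoint Y)))
  have hψρ : ∀ c : k, ψ (Curv2.stalkMap k X (genericPoint X) c) =
      Curv2.stalkMap k Y (genericPoint Y) (c ^ p ^ r) := by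
    intro c
    apply (algebraMap ↑Y.functionField ↑X.functionField).injective
    rw [hψ, ← map_pow]
    exact (congrArg (fun g => g (c ^ p ^ r)) hιρ).symm
  have hab : a ≫ (X ↘ Spec (CommRingCat.of k)) =
      b ≫ Spec.map (CommRingCat.ofHom (iterateFrobenius k p r)) := by
    show (Spec.map ψc ≫ X.fromSpecStalk (genericPoint X)) ≫ (X ↘ Spec (CommRingCat.of k)) = _
    rw [Category.assoc, fromSpecStalk_over k X (genericPoint X), ← Spec.map_comp,
      ← Spec.map_comp]
    congr 1
    apply CommRingCat.hom_ext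
    apply RingHom.ext
    intro c
    exact hψρ c
  let c : Spec (CommRingCat.of ↑Y.functionField) ⟶ tw k p r (X ↘ Spec (CommRingCat.of k)) :=
    pullback.lift a b hab
  have hcπ : c ≫ twFst k p r (X ↘ Spec (CommRingCat.of k)) = a := pullback.lift_fst _ _ _
  have hcs : c ≫ twSnd k p r (X ↘ Spec (CommRingCat.of k)) = b := pullback.lift_snd _ _ _
  have hcpt : c (closedPoint (CommRingCat.of ↑Y.functionField)) =
      genericPoint (tw k p r (X ↘ Spec (CommRingCat.of k))) := by
    apply (isHomeomorph_twFst k p r (X ↘ Spec (CommRingCat.of k))).injective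
    rw [hπξ]
    have h1 : (c ≫ twFst k p r (X ↘ Spec (CommRingCat.of k)))
        (closedPoint (CommRingCat.of ↑Y.functionField)) = genericPoint X := by
      rw [hcπ]
      show (Spec.map ψc ≫ X.fromSpecStalk (genericPoint X)) _ = _
      rw [Scheme.Hom.comp_apply, Spec_closedPoint, Scheme.fromSpecStalk_closedPoint]
    exact h1
  obtain ⟨φ, hcφ₀, -⟩ := exists_factor ↑Y.functionField c _ hcpt
  let φc : (tw k p r (X ↘ Spec (CommRingCat.of k))).presheaf.stalk
      (genericPoint (tw k p r (X ↘ Spec (CommRingCat.of k)))) ⟶ CommRingCat.of ↑Y.functionField :=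
    CommRingCat.ofHom φ
  have hcφ : c = Spec.map φc ≫ (tw k p r (X ↘ Spec (CommRingCat.of k))).fromSpecStalk
      (genericPoint (tw k p r (X ↘ Spec (CommRingCat.of k)))) := hcφ₀
  -- compatibility with `k`
  have hφρ : φ.comp (Curv2.stalkMap k (tw k p r (X ↘ Spec (CommRingCat.of k)))
      (genericPoint (tw k p r (X ↘ Spec (CommRingCat.of k))))) =
      Curv2.stalkMap k Y (genericPoint Y) := by
    have h1 : Spec.map (CommRingCat.ofHom (φ.comp (Curv2.stalkMap k
        (tw k p r (X ↘ Spec (CommRingCat.of k)))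
        (genericPoint (tw k p r (X ↘ Spec (CommRingCat.of k))))))) = b := by
      rw [← hcs, hcφ, Category.assoc]
      have h2 := fromSpecStalk_over k (tw k p r (X ↘ Spec (CommRingCat.of k)))
        (genericPoint (tw k p r (X ↘ Spec (CommRingCat.of k))))
      have h2' : (tw k p r (X ↘ Spec (CommRingCat.of k))).fromSpecStalk
          (genericPoint (tw k p r (X ↘ Spec (CommRingCat.of k)))) ≫
          twSnd k p r (X ↘ Spec (CommRingCat.of k)) = _ := h2
      rw [h2', ← Spec.map_comp]
      rfl
    exact congrArg CommRingCat.Hom.hom (Spec.map_injective h1)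
  -- compatibility with the projection
  let πc : X.presheaf.stalk (genericPoint X) ⟶
      (tw k p r (X ↘ Spec (CommRingCat.of k))).presheaf.stalk
        (genericPoint (tw k p r (X ↘ Spec (CommRingCat.of k)))) :=
    X.presheaf.stalkSpecializes (specializes_of_eq hπξ) ≫
      (twFst k p r (X ↘ Spec (CommRingCat.of k))).stalkMap
        (genericPoint (tw k p r (X ↘ Spec (CommRingCat.of k))))
  have hπc := fromSpecStalk_comp_of_generic (twFst k p r (X ↘ Spec (CommRingCat.of k))) πc hπξ rfl
  have hφπ : ∀ x : ↑X.functionField, φ (πc.hom x) = ψ x := by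
    have h1 : Spec.map (πc ≫ φc) ≫ X.fromSpecStalk (genericPoint X) =
        Spec.map ψc ≫ X.fromSpecStalk (genericPoint X) := by
      rw [Spec.map_comp, Category.assoc, ← hπc, ← Category.assoc, ← hcφ, hcπ]
    have h2 := Spec.map_injective ((cancel_mono (X.fromSpecStalk (genericPoint X))).mp h1)
    intro x
    exact congrArg (fun g => g.hom x) h2
  -- surjectivity
  let φa : ↑((tw k p r (X ↘ Spec (CommRingCat.of k))).presheaf.stalk
      (genericPoint (tw k p r (X ↘ Spec (CommRingCat.of k))))) →ₐ[k] ↑Y.functionField :=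
    { φ with commutes' := fun c => congrArg (fun g => g c) hφρ }
  have hsurj : Function.Surjective φa := by
    refine surjective_of_geomReduced k ↑X.functionField ↑Y.functionField
      ↑(tw k p r (X ↘ Spec (CommRingCat.of k))).functionField p hp htr hred r hr φa ?_
    intro x
    refine ⟨πc.hom x, ?_⟩
    show algebraMap ↑Y.functionField ↑X.functionField (φ (πc.hom x)) = _
    rw [hφπ, hψ]
  have hinj : Function.Injective φ := by
    letI : Field ↑((tw k p r (X ↘ Spec (CommRingCat.of k))).presheaf.stalk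
        (genericPoint (tw k p r (X ↘ Spec (CommRingCat.of k))))) :=
      inferInstanceAs (Field ↑(tw k p r (X ↘ Spec (CommRingCat.of k))).functionField)
    exact φ.injective
  let ε : ↑((tw k p r (X ↘ Spec (CommRingCat.of k))).presheaf.stalk
      (genericPoint (tw k p r (X ↘ Spec (CommRingCat.of k))))) ≃+*
      ↑(Y.presheaf.stalk (genericPoint Y)) := RingEquiv.ofBijective φ ⟨hinj, hsurj⟩
  have hε : ε.toRingHom.comp (@Curv2.stalkMap k _ (tw k p r (X ↘ Spec (CommRingCat.of k)))
      ⟨twSnd k p r (X ↘ Spec (CommRingCat.of k))⟩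
      (genericPoint (tw k p r (X ↘ Spec (CommRingCat.of k))))) =
      @Curv2.stalkMap k _ Y ⟨Y ↘ Spec (CommRingCat.of k)⟩ (genericPoint Y) := hφρ
  have hY1 : ∀ y : Y, IsClosed ({y} : Set Y) → ringKrullDim (Y.presheaf.stalk y) = 1 :=
    fun y hy => Groth.Agent.Helper1.P1Iso.ringKrullDim_stalk_eq_one Y hdY y hy
  have hXr1 : ∀ x : tw k p r (X ↘ Spec (CommRingCat.of k)), IsClosed ({x} : Set _) →
      ringKrullDim ((tw k p r (X ↘ Spec (CommRingCat.of k))).presheaf.stalk x) = 1 :=
    fun x hx => Groth.Agent.Helper1.P1Iso.ringKrullDim_stalk_eq_one _ hdXr x hx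
  exact iso_of_functionField_equiv k (Y ↘ Spec (CommRingCat.of k))
    (twSnd k p r (X ↘ Spec (CommRingCat.of k))) hY1 hXr1 hnY
    (isNormal_of_regular _ hdXr hregXr) ε hε


section Coh

/-- cohomology of the structure sheaf is invariant under isomorphisms over `k` -/
theorem finrank_HH_of_iso (k : Type u) [Field k] (X Y : Scheme.{u})
    [X.Over (Spec (CommRingCat.of k))] [Y.Over (Spec (CommRingCat.of k))]
    [IsProper (X ↘ (Spec (CommRingCat.of k)))]
    (i : Y ≅ X) (hi : i.hom ≫ (X ↘ (Spec (CommRingCat.of k))) = Y ↘ (Spec (CommRingCat.of k)))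
    (n : ℕ) :
    Module.finrank k (Coh.HH Y (Coh.structureModule Y) n) =
      Module.finrank k (Coh.HH X (Coh.structureModule X) n) := by
  haveI := Groth.Agent.Helper1.FBC.compactSpace_of_isProper k X
  have hpb : IsPullback i.hom (Y ↘ Spec (CommRingCat.of k)) (X ↘ Spec (CommRingCat.of k))
      (Spec.map (CommRingCat.ofHom (algebraMap k k))) := by
    have h1 : Spec.map (CommRingCat.ofHom (algebraMap k k)) = 𝟙 _ := by
      rw [Algebra.algebraMap_self, CommRingCat.ofHom_id, Spec.map_id]
    rw [h1]
    exact IsPullback.of_horiz_isIso ⟨by rw [Category.comp_id, hi]⟩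
  have h2 := Groth.Agent.Helper1.FBC.finrank_HH_field k k i.hom hpb (Coh.structureModule X) n
  rw [← h2]
  exact Groth.Agent.Lead.SeesawCor.finrank_HH_congr k Y
    (Groth.Agent.Helper1.PullSec.unitIso i.hom).symm n

/-- cohomology of the structure sheaf of a Frobenius twist -/
theorem finrank_HH_tw (k : Type u) [Field k] (p : ℕ) [ExpChar k p] (r : ℕ) (X : Scheme.{u})
    [X.Over (Spec (CommRingCat.of k))] [IsProper (X ↘ (Spec (CommRingCat.of k)))] (n : ℕ) :
    @Module.finrank k (Coh.HH (tw k p r (X ↘ Spec (CommRingCat.of k)))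
        (Coh.structureModule (tw k p r (X ↘ Spec (CommRingCat.of k)))) n) _ _
      (@Coh.moduleOver k _ (tw k p r (X ↘ Spec (CommRingCat.of k)))
        ⟨twSnd k p r (X ↘ Spec (CommRingCat.of k))⟩ _ n) =
      Module.finrank k (Coh.HH X (Coh.structureModule X) n) := by
  have h1 := @Groth.Agent.Helper1.FBC.finrank_HH_bc k _ X _ k _ (iterateFrobenius k p r).toAlgebra _
    (Coh.structureModule X) _ n
  rw [← h1]
  letI : (tw k p r (X ↘ Spec (CommRingCat.of k))).Over (Spec (CommRingCat.of k)) :=
    ⟨twSnd k p r (X ↘ Spec (CommRingCat.of k))⟩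
  exact Groth.Agent.Lead.SeesawCor.finrank_HH_congr k (tw k p r (X ↘ Spec (CommRingCat.of k)))
    (Groth.Agent.Helper1.PullSec.unitIso (twFst k p r (X ↘ Spec (CommRingCat.of k)))).symm n

end Coh

theorem S6558_main (k : Type u) [Field k] (p : ℕ) [Fact p.Prime] [CharP k p]
    (X Y : Scheme.{u}) [X.Over (Spec (CommRingCat.of k))] [Y.Over (Spec (CommRingCat.of k))]
    [IsIntegral X] [IsProper (X ↘ (Spec (CommRingCat.of k)))] (hdX : topologicalKrullDim X = 1)
    (hregX : ∀ x : X, IsRegularLocalRing (X.presheaf.stalk x))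
    [IsIntegral Y] [IsProper (Y ↘ (Spec (CommRingCat.of k)))] (hdY : topologicalKrullDim Y = 1)
    (hregY : ∀ y : Y, IsRegularLocalRing (Y.presheaf.stalk y))
    (f : X ⟶ Y) (hf : f ≫ (Y ↘ (Spec (CommRingCat.of k))) = X ↘ (Spec (CommRingCat.of k)))
    (e : f (genericPoint X) = genericPoint Y)
    [Smooth (X ↘ (Spec (CommRingCat.of k)))]
    (h0 : Module.finrank k (Coh.HH X (Coh.structureModule X) 0) = 1)
    (hpi : letI := ((Y.presheaf.stalkSpecializes (specializes_of_eq e) ≫
        f.stalkMap (genericPoint X)).hom).toAlgebra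
      IsPurelyInseparable Y.functionField X.functionField) :
    Smooth (Y ↘ (Spec (CommRingCat.of k))) ∧
      Module.finrank k (Coh.HH Y (Coh.structureModule Y) 0) = 1 ∧
      Curv2.genus k Y = Curv2.genus k X := by
  haveI : ExpChar k p := ExpChar.prime Fact.out
  obtain ⟨r, i, hi⟩ := twist_iso_of_proper k p X Y hdX hdY (isNormal_of_regular Y hdY hregY) f hf e
    hpi
  letI ovXr : (tw k p r (X ↘ Spec (CommRingCat.of k))).Over (Spec (CommRingCat.of k)) :=
    ⟨twSnd k p r (X ↘ Spec (CommRingCat.of k))⟩
  haveI : IsProper ((tw k p r (X ↘ Spec (CommRingCat.of k))) ↘ Spec (CommRingCat.of k)) :=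
    inferInstanceAs (IsProper (twSnd k p r (X ↘ Spec (CommRingCat.of k))))
  have key : ∀ n : ℕ, Module.finrank k (Coh.HH Y (Coh.structureModule Y) n) =
      Module.finrank k (Coh.HH X (Coh.structureModule X) n) := fun n =>
    (finrank_HH_of_iso k (tw k p r (X ↘ Spec (CommRingCat.of k))) Y i hi n).trans
      (finrank_HH_tw k p r X n)
  refine ⟨?_, (key 0).trans h0, key 1⟩
  rw [← hi]
  haveI : Smooth (twSnd k p r (X ↘ Spec (CommRingCat.of k))) := inferInstance
  infer_instance

end Groth.Agent.Helper2.FrobTw
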